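import Groth.Agent.NmpFinite.Basic
import Groth.Agent.FlatBirLib.Basic
import Groth.Agent.Triage.ZMTBir
import Mathlib

/-! # Quasi-finite birational maps of smooth schemes over a normal base -/

universe u

open CategoryTheory Limits AlgebraicGeometry TopologicalSpace

set_option backward.isDefEq.respectTransparency false
set_option backward.isDefEq.respectTransparency.types false

noncomputable section

namespace Groth.Agent.BirEtale

/-- An integral affine neighbourhood inside a given open of a normal scheme. -/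
theorem exists_integral_affine {X : Scheme.{u}} [IsLocallyNoetherian X] (hX : Pi1.IsNormalScheme X)
    (x : X) (O : X.Opens) (hx : x ∈ O) :
    ∃ C : X.Opens, x ∈ C ∧ C ≤ O ∧ IsAffineOpen C ∧ IsIntegral C.toScheme := by
  obtain ⟨C₁, hxC₁, hC₁⟩ := S4647.result (𝟙 X) (fun y => (hX y).1) (fun y => by
    obtain ⟨_, ⟨A, hA, rfl⟩, hyA, -⟩ := X.isBasis_affineOpens.exists_subset_of_mem_open
      (Set.mem_univ y) isOpen_univ
    haveI := IsLocallyNoetherian.component_noetherian ⟨A, hA⟩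
    exact ⟨A, hyA, noetherianSpace_of_isAffineOpen A hA⟩) x
  obtain ⟨_, ⟨(C : X.Opens), hC, rfl⟩, hxC, hle⟩ := X.isBasis_affineOpens.exists_subset_of_mem_open
    (show x ∈ C₁ ⊓ O from ⟨hxC₁, hx⟩) (C₁ ⊓ O).isOpen
  haveI := hC₁
  haveI : Nonempty C.toScheme := ⟨⟨x, hxC⟩⟩
  exact ⟨C, hxC, fun y hy => (hle hy).2, hC,
    isIntegral_of_isOpenImmersion (X.homOfLE (show C ≤ C₁ from fun y hy => (hle hy).1))⟩

theorem isOpenImmersion_near {M N : Scheme.{u}} [IsLocallyNoetherian M] [IsLocallyNoetherian N]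
    (hM : Pi1.IsNormalScheme M) (hN : Pi1.IsNormalScheme N) (φ : M ⟶ N) [IsSeparated φ]
    [LocallyOfFiniteType φ] [LocallyQuasiFinite φ] (P : N.Opens) (hiso : IsIso (φ ∣_ P))
    (hd : Dense ((φ ⁻¹ᵁ P : M.Opens) : Set M)) (x : M) :
    ∃ W : M.Opens, x ∈ W ∧ IsOpenImmersion (W.ι ≫ φ) := by
  obtain ⟨D, hxD, -, hD, hDi⟩ := exists_integral_affine hN (φ x) ⊤ trivial
  obtain ⟨C, hxC, hCD, hC, hCi⟩ := exists_integral_affine hM x (φ ⁻¹ᵁ D) hxD
  haveI : IsAffine C.toScheme := hC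
  haveI : IsAffine D.toScheme := hD
  haveI := hDi
  haveI := hCi
  let g : C.toScheme ⟶ D.toScheme := φ.resLE D C hCD
  haveI : IsAffineHom g := isAffineHom_of_isAffine _
  have hg : g ≫ D.ι = C.ι ≫ φ := Scheme.Hom.resLE_comp_ι _ _
  haveI : LocallyQuasiFinite g := by
    have : LocallyQuasiFinite (g ≫ D.ι) := by rw [hg]; infer_instance
    exact LocallyQuasiFinite.of_comp g D.ι
  haveI : LocallyOfFiniteType g := by
    have : LocallyOfFiniteType (g ≫ D.ι) := by rw [hg]; infer_instance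
    exact locallyOfFiniteType_of_comp g D.ι
  let O' : C.toScheme.Opens := C.ι ⁻¹ᵁ (φ ⁻¹ᵁ P)
  obtain ⟨p, hpC, hpP⟩ := hd.inter_open_nonempty _ C.isOpen ⟨x, hxC⟩
  haveI : Nonempty O'.toScheme := ⟨⟨⟨p, hpC⟩, hpP⟩⟩
  haveI : IsIntegral O'.toScheme := isIntegral_of_isOpenImmersion O'.ι
  haveI hoi : IsOpenImmersion (O'.ι ≫ g) := by
    haveI := hiso
    have h1 : (O'.ι ≫ g) ≫ D.ι = (C.ι ∣_ (φ ⁻¹ᵁ P)) ≫ (φ ∣_ P) ≫ P.ι := by
      rw [Category.assoc, hg, morphismRestrict_ι, morphismRestrict_ι_assoc]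
    have : IsOpenImmersion ((O'.ι ≫ g) ≫ D.ι) := by rw [h1]; infer_instance
    exact IsOpenImmersion.of_comp (O'.ι ≫ g) D.ι
  have hgO : O'.ι (genericPoint O'.toScheme) = genericPoint C.toScheme :=
    genericPoint_eq_of_isOpenImmersion _
  have hgen : g (genericPoint C.toScheme) = genericPoint D.toScheme := by
    rw [← hgO, ← Scheme.Hom.comp_apply]
    exact genericPoint_eq_of_isOpenImmersion (O'.ι ≫ g)
  have hbir : IsIso (g.stalkMap (genericPoint C.toScheme)) := by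
    rw [← hgO]
    have h : IsIso ((O'.ι ≫ g).stalkMap (genericPoint O'.toScheme)) := inferInstance
    rw [Scheme.Hom.stalkMap_comp] at h
    exact @IsIso.of_isIso_comp_right _ _ _ _ _ _ _ inferInstance h
  have hNs : ∀ y : D.toScheme, IsIntegrallyClosed (D.toScheme.presheaf.stalk y) := fun y =>
    haveI := (hN (D.ι y)).2
    IsIntegrallyClosed.of_equiv (asIso (D.ι.stalkMap y)).commRingCatIsoToRingEquiv
  haveI : IsOpenImmersion g := Triage.ZMTBir.isOpenImmersion_of_birational hNs g hgen hbir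
  refine ⟨C, hxC, ?_⟩
  rw [← hg]
  infer_instance

theorem isOpenImmersion_of_iso_over {S M N : Scheme.{u}} [IsLocallyNoetherian S]
    (hS : Pi1.IsNormalScheme S) (U : S.Opens) (hU : CInt.IsSchematicallyDense U)
    (pM : M ⟶ S) [Etale pM] [IsSeparated pM] (pN : N ⟶ S) [Smooth pN]
    (φ : M ⟶ N) (hφ : φ ≫ pN = pM) (hiso : IsIso (φ ∣_ (pN ⁻¹ᵁ U))) : IsOpenImmersion φ := by
  haveI : IsLocallyNoetherian M := LocallyOfFiniteType.isLocallyNoetherian pM
  haveI : IsLocallyNoetherian N := LocallyOfFiniteType.isLocallyNoetherian pN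
  haveI : IsSeparated (φ ≫ pN) := by rw [hφ]; infer_instance
  haveI : IsSeparated φ := IsSeparated.of_comp φ pN
  haveI : LocallyOfFiniteType (φ ≫ pN) := by rw [hφ]; infer_instance
  haveI : LocallyOfFiniteType φ := locallyOfFiniteType_of_comp φ pN
  haveI : LocallyQuasiFinite pM := AlgSpLib.locallyQuasiFinite_of_formallyUnramified pM
  haveI : LocallyQuasiFinite (φ ≫ pN) := by rw [hφ]; infer_instance
  haveI : LocallyQuasiFinite φ := LocallyQuasiFinite.of_comp φ pN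
  let O := φ ⁻¹ᵁ (pN ⁻¹ᵁ U)
  have hO' : CInt.IsSchematicallyDense O := by
    have h0 := FlatBirLib.preimage_of_flat pM U hU
    rw [← hφ, Scheme.Hom.comp_preimage] at h0
    exact h0
  have hOd : Dense (O : Set M) := by
    haveI : IsSchemeTheoreticallyDominant O.ι :=
      ⟨(AlgSpDec.SchDenseFacts.iff_ker_eq_bot O).1 hO'⟩
    have := O.ι.denseRange
    rwa [DenseRange, Scheme.Opens.range_ι] at this
  have hloc := isOpenImmersion_near (NmpFinite.isNormalScheme_of_smooth hS pM)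
    (NmpFinite.isNormalScheme_of_smooth hS pN) φ (pN ⁻¹ᵁ U) hiso hOd
  haveI : Flat φ := by
    refine Flat.iff_flat_stalkMap φ |>.2 fun x => ?_
    obtain ⟨W, hxW, hW⟩ := hloc x
    haveI := hW
    have h : ((W.ι ≫ φ).stalkMap ⟨x, hxW⟩).hom.Flat := Flat.stalkMap (W.ι ≫ φ) ⟨x, hxW⟩
    rw [Scheme.Hom.stalkMap_comp] at h
    exact (FlatLocus.flat_comp_isIso _ _).1 h
  haveI : LocallyOfFinitePresentation φ := inferInstance
  haveI : IsLocallyNoetherian (pullback φ φ) :=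
    LocallyOfFiniteType.isLocallyNoetherian (pullback.fst φ φ)
  let O₂ := pullback.fst φ φ ⁻¹ᵁ O
  have hO₂ : CInt.IsSchematicallyDense O₂ := FlatBirLib.preimage_of_flat _ _ hO'
  have heq : O₂.ι ≫ pullback.fst φ φ = O₂.ι ≫ pullback.snd φ φ := by
    have hmem : ∀ t : O₂.toScheme, φ (pullback.fst φ φ (O₂.ι t)) ∈ pN ⁻¹ᵁ U := fun t => t.2
    refine FlatBirLib.eq_of_comp_eq φ (pN ⁻¹ᵁ U) hiso _ _ (fun t => ?_) ?_
    · rw [Scheme.Hom.comp_apply]; exact hmem t
    · simp only [Category.assoc, pullback.condition]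
  have hfac : (O₂.ι ≫ pullback.fst φ φ) ≫ pullback.diagonal φ = O₂.ι := by
    apply pullback.hom_ext
    · simp
    · rw [Category.assoc, pullback.diagonal_snd, Category.comp_id]
      exact heq
  have hker : (pullback.diagonal φ).ker = ⊥ := by
    have h1 := Scheme.Hom.le_ker_comp (O₂.ι ≫ pullback.fst φ φ) (pullback.diagonal φ)
    rw [hfac, (AlgSpDec.SchDenseFacts.iff_ker_eq_bot O₂).1 hO₂] at h1
    exact le_bot_iff.1 h1
  haveI : IsIso (pullback.diagonal φ) := IsClosedImmersion.isIso_iff_ker_eq_bot.2 hker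
  haveI : Mono φ := (pullback.isIso_diagonal_iff φ).1 inferInstance
  exact IsOpenImmersion.of_flat_of_mono φ

theorem isIso_restrict_of_isIso_map {S : Scheme.{u}} (U : S.Opens) {M N : Over S} (φ : M ⟶ N)
    [IsIso ((Over.pullback U.ι).map φ)] : IsIso (φ.left ∣_ (N.hom ⁻¹ᵁ U)) := by
  haveI : IsIso ((Over.pullback U.ι).map φ).left :=
    inferInstanceAs (IsIso ((Over.forget _).map ((Over.pullback U.ι).map φ)))
  obtain ⟨cM, cM', hcM, hcM', hM1, hM2⟩ := NmpLocalize.exists_open_iso_resObj U M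
  obtain ⟨cN, cN', hcN, hcN', hN1, hN2⟩ := NmpLocalize.exists_open_iso_resObj U N
  have hpre : φ.left ⁻¹ᵁ (N.hom ⁻¹ᵁ U) = M.hom ⁻¹ᵁ U := by
    rw [← Scheme.Hom.comp_preimage, Over.w]
  let m : (NmpTorsor.resObj U M).left ⟶ (NmpTorsor.resObj U N).left := ((Over.pullback U.ι).map φ).left
  haveI : IsIso m := inferInstanceAs (IsIso ((Over.pullback U.ι).map φ).left)
  haveI : IsIso cM := ⟨cM', hM2, hM1⟩
  haveI : IsIso cN' := ⟨cN, hN1, hN2⟩
  have h : φ.left ∣_ (N.hom ⁻¹ᵁ U) = (M.left.isoOfEq hpre).hom ≫ cM ≫ m ≫ cN' := by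
    rw [← cancel_mono (N.hom ⁻¹ᵁ U).ι, morphismRestrict_ι]
    simp only [Category.assoc, hcN']
    have hm : m ≫ (NmpTorsor.j U N).left = (NmpTorsor.j U M).left ≫ φ.left :=
      Neron6.pullback_map_fst U.ι φ
    rw [hm, reassoc_of% hcM, Scheme.isoOfEq_hom_ι_assoc]
  rw [h]
  infer_instance

end Groth.Agent.BirEtale
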